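import Cfsg.Agent.Lib.Helper9.TCData.ONCX.Main

set_option autoImplicit false
set_option maxRecDepth 1000000

namespace Cfsg.Agent.Helper9.TCData.ONCX
open Cfsg.Agent.Helper9.TC2

theorem l_0 : allRange 0 53 (fun u => chkL tab u) = true := by decide +kernel


end Cfsg.Agent.Helper9.TCData.ONCX
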